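import Cfsg.Agent.FGSB.TwoLinear.Perm
import Cfsg.Agent.InvChar.UniqueInvolution
import Mathlib.LinearAlgebra.Eigenspace.Pi
import Mathlib.LinearAlgebra.Eigenspace.Semisimple
import Mathlib.LinearAlgebra.Eigenspace.Triangularizable
import Mathlib.LinearAlgebra.Semisimple
import Mathlib.FieldTheory.Separable

/-!
# A linear `2`-group of degree `n` in odd characteristic needs at most `3n / 2` generators
-/

set_option autoImplicit false
set_option linter.unusedSectionVars false
set_option linter.style.haveILetI false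

namespace CfsgLib.TwoLinear

open Subgroup Module Polynomial

universe u v w

/-- A linear `2`-group of dimension `n` over an algebraically closed field of odd characteristic has
`|P : ℧(P)|² ≤ 2^(3n)`. -/
theorem linear_bound {P : Type u} [Group P] [Finite P] (hP : IsPGroup 2 P) {K : Type v} [Field K]
    [IsAlgClosed K] (h2 : (2 : K) ≠ 0) {V : Type w} [AddCommGroup V] [Module K V] [FiniteDimensional K V]
    (ρ : P →* Module.End K V) (hρ : Function.Injective ρ) :
    (sq P).index ^ 2 ≤ 2 ^ (3 * finrank K V) := by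
  classical
  obtain ⟨A, hAn, hAc, hself⟩ := CfsgLib.UniqueInvol.exists_self_centralizing hP
  haveI := hAn
  let E : (A → K) → Submodule K V := fun χ => ⨅ a : A, Module.End.eigenspace (ρ (a : P)) (χ a)
  have hmemE : ∀ χ v, v ∈ E χ ↔ ∀ a : A, ρ (a : P) v = χ a • v := fun χ v => by
    simp only [E, Submodule.mem_iInf, Module.End.mem_eigenspace_iff]
  have hss : ∀ a : A, Module.End.IsSemisimple (ρ (a : P)) := fun a => by
    obtain ⟨k, hk⟩ := hP (a : P)
    refine Module.End.isSemisimple_of_squarefree_aeval_eq_zero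
      (p := (X : K[X]) ^ (2 ^ k) - 1) ?_ ?_
    · refine Polynomial.Separable.squarefree (X_pow_sub_one_separable_iff.2 ?_)
      rw [Nat.cast_pow, Nat.cast_ofNat]
      exact pow_ne_zero _ h2
    · rw [map_sub, map_pow, aeval_X, map_one, ← map_pow, hk, map_one, sub_self]
  have heig : ∀ (a : A) μ, Module.End.maxGenEigenspace (ρ (a : P)) μ = Module.End.eigenspace (ρ (a : P)) μ :=
    fun a μ => (hss a).isFinitelySemisimple.maxGenEigenspace_eq_eigenspace μ
  have hcomm : ∀ a b : A, Commute (ρ (a : P)) (ρ (b : P)) := fun a b => by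
    rw [commute_iff_eq, ← map_mul, ← map_mul, hAc a a.2 b b.2]
  have htop : ⨆ χ, E χ = ⊤ := by
    have h := Module.End.iSup_iInf_maxGenEigenspace_eq_top_of_iSup_maxGenEigenspace_eq_top_of_commute
      (fun a : A => ρ (a : P)) (fun a b _ => hcomm a b) fun a => Module.End.iSup_maxGenEigenspace_eq_top _
    simpa only [heig, E] using h
  have hind : iSupIndep E := by
    have h := Module.End.independent_iInf_maxGenEigenspace_of_forall_mapsTo (fun a : A => ρ (a : P))
      fun a b φ => Module.End.mapsTo_maxGenEigenspace_of_comm (hcomm b a) φ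
    simpa only [heig, E] using h
  haveI : Finite {χ : A → K // E χ ≠ ⊥} := by
    haveI := hind.fintypeNeBotOfFiniteDimensional
    infer_instance
  have hS : Nat.card {χ : A → K // E χ ≠ ⊥} ≤ finrank K V := by
    haveI := Fintype.ofFinite {χ : A → K // E χ ≠ ⊥}
    rw [Nat.card_eq_fintype_card]
    exact hind.subtype_ne_bot_le_finrank
  -- operators agreeing on every weight space are equal
  have hsep : ∀ T T' : Module.End K V, (∀ χ, E χ ≠ ⊥ → ∀ v ∈ E χ, T v = T' v) → T = T' := by
    intro T T' h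
    refine LinearMap.ext fun v => ?_
    have hle : ⨆ χ, E χ ≤ LinearMap.ker (T - T') := iSup_le fun χ => by
      by_cases hχ : E χ = ⊥
      · rw [hχ]; exact bot_le
      · intro v hv
        rw [LinearMap.mem_ker, LinearMap.sub_apply, h χ hχ v hv, sub_self]
    have := hle (htop ▸ Submodule.mem_top : v ∈ ⨆ χ, E χ)
    rwa [LinearMap.mem_ker, LinearMap.sub_apply, sub_eq_zero] at this
  -- the action of `P` on the weights
  let cj : P → A → A := fun g a => ⟨g⁻¹ * a * g, by simpa using hAn.conj_mem _ a.2 g⁻¹⟩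
  have hcj : ∀ g χ, E χ ≠ ⊥ → E (χ ∘ cj g) ≠ ⊥ := fun g χ hχ => by
    obtain ⟨v, hv, hv0⟩ := Submodule.exists_mem_ne_zero_of_ne_bot hχ
    refine (Submodule.ne_bot_iff _).2 ⟨ρ g v, (hmemE _ _).2 fun a => ?_, fun h0 => hv0 ?_⟩
    · have := (hmemE _ _).1 hv (cj g a)
      calc ρ (a : P) (ρ g v) = ρ (g * (g⁻¹ * a * g)) v := by
            rw [← Module.End.mul_apply, ← map_mul]; congr 2; group
        _ = (χ ∘ cj g) a • ρ g v := by
            rw [map_mul, Module.End.mul_apply, this, map_smul]; rfl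
    · have := congrArg (ρ g⁻¹) h0
      rwa [map_zero, ← Module.End.mul_apply, ← map_mul, inv_mul_cancel, map_one, Module.End.one_apply] at this
  have hcj_mul : ∀ g h a, cj h (cj g a) = cj (g * h) a := fun g h a => Subtype.ext (by
    show h⁻¹ * (g⁻¹ * (a : P) * g) * h = (g * h)⁻¹ * a * (g * h)
    group)
  have hcj_one : ∀ a, cj 1 a = a := fun a => Subtype.ext (by simp [cj])
  let act : P → Equiv.Perm {χ : A → K // E χ ≠ ⊥} := fun g =>
    { toFun := fun χ => ⟨χ.1 ∘ cj g, hcj g _ χ.2⟩
      invFun := fun χ => ⟨χ.1 ∘ cj g⁻¹, hcj g⁻¹ _ χ.2⟩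
      left_inv := fun χ => Subtype.ext (funext fun a => by
        show χ.1 (cj g (cj g⁻¹ a)) = χ.1 a
        rw [hcj_mul, inv_mul_cancel, hcj_one])
      right_inv := fun χ => Subtype.ext (funext fun a => by
        show χ.1 (cj g⁻¹ (cj g a)) = χ.1 a
        rw [hcj_mul, mul_inv_cancel, hcj_one]) }
  let φ : P →* Equiv.Perm {χ : A → K // E χ ≠ ⊥} :=
    { toFun := act
      map_one' := Equiv.ext fun χ => Subtype.ext (funext fun a => congrArg χ.1 (hcj_one a))
      map_mul' := fun g h => Equiv.ext fun χ => Subtype.ext (funext fun a => by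
        show χ.1 (cj (g * h) a) = χ.1 (cj h (cj g a))
        rw [hcj_mul]) }
  have hker : φ.ker = A := by
    ext g
    constructor
    · intro hg
      refine hself (mem_centralizer_iff.2 fun a ha => ?_)
      have h1 : ρ (g⁻¹ * a * g) = ρ a := hsep _ _ fun χ hχ v hv => by
        have e1 : χ (cj g ⟨a, ha⟩) = χ ⟨a, ha⟩ :=
          congrFun (congrArg Subtype.val (Equiv.ext_iff.1 (MonoidHom.mem_ker.1 hg) ⟨χ, hχ⟩)) ⟨a, ha⟩
        have e2 := (hmemE _ _).1 hv (cj g ⟨a, ha⟩)
        have e3 := (hmemE _ _).1 hv ⟨a, ha⟩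
        rw [e1] at e2
        exact e2.trans e3.symm
      have h2 := hρ h1
      calc a * g = g * (g⁻¹ * a * g) := by group
        _ = g * a := by rw [h2]
    · intro hg
      refine MonoidHom.mem_ker.2 (Equiv.ext fun χ => Subtype.ext (funext fun a => ?_))
      show χ.1 (cj g a) = χ.1 a
      refine congrArg χ.1 (Subtype.ext ?_)
      show g⁻¹ * (a : P) * g = a
      rw [mul_assoc, hAc a a.2 g hg, inv_mul_cancel_left]
  have hQ := perm_bound _ (P ⧸ φ.ker) {χ : A → K // E χ ≠ ⊥} rfl (hP.to_quotient _)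
    (QuotientGroup.kerLift φ) (QuotientGroup.kerLift_injective φ)
  -- the squaring map on `A`
  let η : A →* A :=
    { toFun := fun a => a ^ 2
      map_one' := one_pow 2
      map_mul' := fun a b => Commute.mul_pow (Subtype.ext (hAc a a.2 b b.2)) 2 }
  have hη := relIndex_le_ker A η fun a => sq_mem (a : P)
  have hη2 : Nat.card η.ker ≤ 2 ^ Nat.card {χ : A → K // E χ ≠ ⊥} := by
    haveI := Fintype.ofFinite {χ : A → K // E χ ≠ ⊥}
    refine (Nat.card_le_card_of_injective
      (fun a : η.ker => fun χ : {χ : A → K // E χ ≠ ⊥} => decide (χ.1 a.1 = 1)) ?_).trans_eq ?_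
    · intro a b h
      refine Subtype.ext (Subtype.ext (hρ (hsep _ _ fun χ hχ v hv => ?_)))
      rw [(hmemE _ _).1 hv a.1, (hmemE _ _).1 hv b.1]
      have hpm : ∀ c : η.ker, χ c.1 = 1 ∨ χ c.1 = -1 := fun c => by
        obtain ⟨u, hu, hu0⟩ := Submodule.exists_mem_ne_zero_of_ne_bot hχ
        have e := (hmemE _ _).1 hu c.1
        have hc2 : ((c.1 : A) : P) ^ 2 = 1 := congrArg Subtype.val (MonoidHom.mem_ker.1 c.2)
        have e2 : (χ c.1 * χ c.1) • u = u := by
          conv_rhs => rw [show u = ρ (((c.1 : A) : P) ^ 2) u by rw [hc2, map_one, Module.End.one_apply]]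
          rw [pow_two, map_mul, Module.End.mul_apply, e, map_smul, e, smul_smul]
        have e3 : χ c.1 * χ c.1 = 1 := smul_left_injective K hu0 (e2.trans (one_smul K u).symm)
        exact mul_self_eq_one_iff.1 e3
      congr 1
      have hd := congrFun h ⟨χ, hχ⟩
      simp only [decide_eq_decide] at hd
      rcases hpm a with ha | ha
      · rw [ha, hd.1 ha]
      · rcases hpm b with hb | hb
        · rw [hb, hd.2 hb]
        · rw [ha, hb]
    · rw [Nat.card_fun, Nat.card_eq_fintype_card (α := Bool), Fintype.card_bool]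
  have h1 := index_sq_le (QuotientGroup.mk' φ.ker) (QuotientGroup.mk'_surjective _)
  rw [QuotientGroup.ker_mk'] at h1
  have h3 : (sq P).relIndex φ.ker ≤ 2 ^ Nat.card {χ : A → K // E χ ≠ ⊥} := by
    rw [hker]; exact hη.trans hη2
  calc (sq P).index ^ 2
      ≤ ((sq (P ⧸ φ.ker)).index * 2 ^ Nat.card {χ : A → K // E χ ≠ ⊥}) ^ 2 :=
        Nat.pow_le_pow_left (h1.trans (Nat.mul_le_mul_left _ h3)) 2
    _ ≤ 2 ^ Nat.card {χ : A → K // E χ ≠ ⊥} * 2 ^ (Nat.card {χ : A → K // E χ ≠ ⊥} * 2) := by
        rw [mul_pow, ← pow_mul]; exact Nat.mul_le_mul_right _ hQ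
    _ ≤ 2 ^ (3 * finrank K V) := by
        rw [← pow_add]; exact Nat.pow_le_pow_right (by norm_num) (by omega)

end CfsgLib.TwoLinear
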