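import Cfsg.Agent.FGSB.TwoLinear.Linear
import Mathlib.Algebra.Module.ZMod
import Mathlib.FieldTheory.IsAlgClosed.AlgebraicClosure
import Mathlib.FieldTheory.Finite.Basic
import Mathlib.LinearAlgebra.Matrix.ToLin
import Mathlib.FieldTheory.Finiteness

/-!
# The Frattini index of a `2`-group acting faithfully on a minimal normal subgroup of odd order
-/

set_option autoImplicit false
set_option linter.unusedSectionVars false
set_option linter.style.haveILetI false

namespace CfsgLib.TwoLinear

open Subgroup Module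

theorem index_lt {q n s : ℕ} (hq : 3 ≤ q) (hn : 0 < n) (hs : s ^ 2 ≤ 2 ^ (3 * n)) : s ≤ q ^ n - 1 := by
  have h1 : s ^ 2 < (q ^ n) ^ 2 := by
    refine hs.trans_lt ?_
    rw [pow_mul 2, ← pow_mul q, mul_comm n 2, pow_mul q]
    refine lt_of_lt_of_le (Nat.pow_lt_pow_left (show 2 ^ 3 < 9 by norm_num) hn.ne') ?_
    exact Nat.pow_le_pow_left (by nlinarith) n
  have := (Nat.pow_lt_pow_iff_left (two_ne_zero)).1 h1
  omega

/-- The generator bound for a `2`-group of automorphisms of an abelian group of odd prime exponent. -/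
theorem bound_of_action {A : Type*} [CommGroup A] [Finite A] [Nontrivial A] {q : ℕ} [Fact q.Prime] (hq3 : 3 ≤ q)
    (hexp : ∀ a : A, a ^ q = 1) {P : Type*} [Group P] [Finite P] (hP : IsPGroup 2 P) (c : P →* MulAut A)
    (hc : Function.Injective c) : (sq P).index ≤ Nat.card A - 1 := by
  have hexp' : ∀ v : Additive A, q • v = 0 := fun v => congrArg Additive.ofMul (hexp v.toMul)
  letI : Module (ZMod q) (Additive A) := AddCommGroup.zmodModule (n := q) (G := Additive A) hexp'
  haveI : Module.Finite (ZMod q) (Additive A) := Module.Finite.of_finite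
  let toEnd : (Additive A ≃+ Additive A) → Module.End (ZMod q) (Additive A) :=
    fun e => AddMonoidHom.toZModLinearMap q e.toAddMonoidHom
  have hta : ∀ (g : P) (v : Additive A),
      toEnd (MulEquiv.toAdditive (c g)) v = Additive.ofMul (c g v.toMul) := fun g v => rfl
  let ρ : P →* Module.End (ZMod q) (Additive A) :=
    { toFun := fun g => toEnd (MulEquiv.toAdditive (c g))
      map_one' := LinearMap.ext fun v => by rw [hta, map_one]; rfl
      map_mul' := fun g h => LinearMap.ext fun v => by
        rw [Module.End.mul_apply, hta, hta, hta, map_mul]; rfl }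
  have hρ : Function.Injective ρ := fun g h e => hc (MulEquiv.ext fun a => by
    have e' : toEnd (MulEquiv.toAdditive (c g)) = toEnd (MulEquiv.toAdditive (c h)) := e
    have := LinearMap.congr_fun e' (Additive.ofMul a)
    rw [hta, hta] at this
    exact Additive.ofMul.injective this)
  let b := Module.finBasis (ZMod q) (Additive A)
  let K := AlgebraicClosure (ZMod q)
  let φ : Module.End (ZMod q) (Additive A) →*
      Module.End K (Fin (finrank (ZMod q) (Additive A)) → K) :=
    { toFun := fun T => Matrix.toLinAlgEquiv' (RingHom.mapMatrix (algebraMap (ZMod q) K)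
        (LinearMap.toMatrixAlgEquiv b T))
      map_one' := by rw [map_one, map_one, map_one]
      map_mul' := fun S T => by rw [map_mul, map_mul, map_mul] }
  have hφ : Function.Injective φ :=
    (Matrix.toLinAlgEquiv' (R := K)).injective.comp
      ((Matrix.map_injective (algebraMap (ZMod q) K).injective).comp (LinearMap.toMatrixAlgEquiv b).injective)
  have h2 : (2 : K) ≠ 0 := by
    haveI : CharP K q := charP_of_injective_algebraMap (algebraMap (ZMod q) K).injective q
    rw [show (2 : K) = ((2 : ℕ) : K) by norm_num]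
    intro h
    have := Nat.le_of_dvd (by norm_num) ((CharP.cast_eq_zero_iff K q 2).1 h)
    omega
  have hb := linear_bound hP h2 (φ.comp ρ) (hφ.comp hρ)
  rw [Module.finrank_fin_fun] at hb
  have hpos : 0 < finrank (ZMod q) (Additive A) := Module.finrank_pos
  have hcard : Nat.card A = q ^ finrank (ZMod q) (Additive A) := by
    have h := Module.natCard_eq_pow_finrank (K := ZMod q) (V := Additive A)
    rw [Nat.card_zmod] at h
    exact h
  rw [hcard]
  exact index_lt hq3 hpos hb

theorem main {G : Type*} [Group G] [Finite G] (N P : Subgroup G) (hN : N.Normal) (hNab : IsMulCommutative N)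
    (hNodd : Odd (Nat.card N)) (hP : IsPGroup 2 P) (hdisj : N ⊓ P = ⊥) (hprod : N ⊔ P = ⊤)
    (hne : N ≠ ⊥) (hmin : ∀ M : Subgroup G, M.Normal → M ≠ ⊥ → N ≤ M) :
    (frattini P).index ≤ Nat.card N - 1 := by
  haveI := hN
  have hN1 : Nat.card N ≠ 1 := fun h => hne (eq_bot_of_card_eq N h)
  obtain ⟨q, hq, hqd⟩ := Nat.exists_prime_and_dvd hN1
  haveI := Fact.mk hq
  have hq3 : 3 ≤ q := by
    rcases hq.eq_two_or_odd with rfl | h
    · exact absurd (even_iff_two_dvd.2 hqd) (Nat.not_even_iff_odd.2 hNodd)
    · have := hq.two_le; omega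
  have hcomm : ∀ x ∈ N, ∀ y ∈ N, x * y = y * x := fun x hx y hy =>
    congrArg Subtype.val (mul_comm' (⟨x, hx⟩ : N) ⟨y, hy⟩)
  -- `N` has exponent `q`
  let M : Subgroup G :=
    { carrier := {x | x ∈ N ∧ x ^ q = 1}
      one_mem' := ⟨one_mem N, one_pow q⟩
      mul_mem' := fun {x y} hx hy => ⟨mul_mem hx.1 hy.1, by
        rw [Commute.mul_pow (hcomm x hx.1 y hy.1), hx.2, hy.2, one_mul]⟩
      inv_mem' := fun {x} hx => ⟨inv_mem hx.1, by rw [inv_pow, hx.2, inv_one]⟩ }
  have hMn : M.Normal := ⟨fun x hx g => ⟨hN.conj_mem x hx.1 g, by rw [conj_pow, hx.2, mul_one, mul_inv_cancel]⟩⟩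
  obtain ⟨x, hx⟩ := exists_prime_orderOf_dvd_card' (G := N) q hqd
  have hxM : (x : G) ∈ M := ⟨x.2, by
    have := pow_orderOf_eq_one x
    rw [hx] at this
    exact congrArg Subtype.val this⟩
  have hMne : M ≠ ⊥ := fun h => by
    have : x = 1 := Subtype.ext (mem_bot.1 (h ▸ hxM))
    rw [this, orderOf_one] at hx
    exact hq.ne_one hx.symm
  have hexp : ∀ y : N, y ^ q = 1 := fun y => Subtype.ext (hmin M hMn hMne y.2).2
  letI : CommGroup N := { (inferInstance : Group N) with mul_comm := fun a b => mul_comm' a b }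
  haveI : Nontrivial N := (Subgroup.nontrivial_iff_ne_bot N).2 hne
  let c : P →* MulAut N := (MulAut.conjNormal (H := N)).comp P.subtype
  have hc : Function.Injective c := by
    rw [injective_iff_map_eq_one]
    intro g hg
    have hfix : ∀ y ∈ N, (g : G) * y = y * g := fun y hy => by
      have e' : MulAut.conjNormal (g : G) (⟨y, hy⟩ : N) = ⟨y, hy⟩ :=
        DFunLike.congr_fun hg (⟨y, hy⟩ : N)
      have e : (g : G) * y * (g : G)⁻¹ = y := by
        have := congrArg Subtype.val e'
        rwa [MulAut.conjNormal_apply] at this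
      exact mul_inv_eq_iff_eq_mul.1 e
    let C : Subgroup G := P ⊓ centralizer (N : Set G)
    have hCn : C.Normal := by
      refine normalizer_eq_top_iff.1 (eq_top_iff.2 (hprod ▸ sup_le (fun y hy => ?_) (fun y hy => ?_)))
      · refine mem_normalizer_iff.2 fun c => ?_
        have hfix' : ∀ d ∈ C, y * d * y⁻¹ = d := fun d hd => by
          rw [(mem_centralizer_iff.1 hd.2 y hy), mul_inv_cancel_right]
        constructor
        · intro hc; rw [hfix' c hc]; exact hc
        · intro hc
          have h' := hfix' _ hc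
          have : y * c * y⁻¹ = c := by
            calc y * c * y⁻¹ = y⁻¹ * (y * (y * c * y⁻¹) * y⁻¹) * y := by group
              _ = c := by rw [h']; group
          exact this ▸ hc
      · have hn1 : y ∈ normalizer (P : Set G) := le_normalizer hy
        have hn2 : y ∈ normalizer (centralizer (N : Set G) : Set G) := by
          rw [normalizer_eq_top]; exact mem_top y
        exact inf_normalizer_le_normalizer_inf ⟨hn1, hn2⟩
    have hgC : (g : G) ∈ C := ⟨g.2, mem_centralizer_iff.2 fun y hy => (hfix y hy).symm⟩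
    by_contra hg1
    have hNC : N ≤ C := hmin C hCn fun h => hg1 (Subtype.ext (mem_bot.1 (h ▸ hgC)))
    exact hne (le_bot_iff.1 (hdisj ▸ le_inf le_rfl (hNC.trans inf_le_left)))
  exact (Nat.le_of_dvd (Nat.pos_of_ne_zero index_ne_zero_of_finite) (index_dvd_of_le (sq_le_frattini hP))).trans
    (bound_of_action hq3 hexp hP c hc)

end CfsgLib.TwoLinear
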