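import Cfsg.Agent.FGSB.TwoLinear.Squares

/-!
# A permutation `2`-group of degree `n` needs at most `n / 2` generators
-/

set_option autoImplicit false
set_option linter.unusedSectionVars false
set_option linter.style.haveILetI false

namespace CfsgLib.TwoLinear

open Subgroup

universe u v

variable {Ω : Type v}

/-- The pairs of an involution. -/
def pairSetoid (σ : Equiv.Perm Ω) (h2 : ∀ x, σ (σ x) = x) : Setoid Ω where
  r x y := y = x ∨ y = σ x
  iseqv := ⟨fun x => Or.inl rfl, by
      rintro x y (rfl | rfl)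
      · exact Or.inl rfl
      · exact Or.inr (h2 x).symm, by
      rintro x y z (rfl | rfl) (rfl | rfl)
      · exact Or.inl rfl
      · exact Or.inr rfl
      · exact Or.inr rfl
      · exact Or.inl (h2 x)⟩

theorem pair_card [Finite Ω] (σ : Equiv.Perm Ω) (h2 : ∀ x, σ (σ x) = x) (hne : ∀ x, σ x ≠ x) :
    Nat.card (Quotient (pairSetoid σ h2)) * 2 = Nat.card Ω := by
  classical
  haveI := Fintype.ofFinite Ω
  rw [Nat.card_eq_fintype_card, Nat.card_eq_fintype_card]
  have h := Finset.card_eq_sum_card_fiberwise (s := (Finset.univ : Finset Ω))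
    (t := (Finset.univ : Finset (Quotient (pairSetoid σ h2)))) (f := Quotient.mk _) fun _ _ => Finset.mem_univ _
  rw [Finset.card_univ] at h
  rw [h, Finset.sum_congr rfl (g := fun _ => 2) fun q _ => ?_]
  · simp
  obtain ⟨x, rfl⟩ := Quotient.exists_rep q
  have e : Finset.univ.filter (fun y => (Quotient.mk (pairSetoid σ h2) y) = Quotient.mk _ x) = {x, σ x} := by
    ext y
    simp only [Finset.mem_filter, Finset.mem_univ, true_and, Finset.mem_insert, Finset.mem_singleton]
    rw [eq_comm, Quotient.eq]
    rfl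
  rw [e, Finset.card_pair (Ne.symm (hne x))]

variable {P : Type u} [Group P]

/-- The permutations induced on the pairs of a central involution. -/
def pairHom (f : P →* Equiv.Perm Ω) (σ : Equiv.Perm Ω) (h2 : ∀ x, σ (σ x) = x)
    (hc : ∀ g x, f g (σ x) = σ (f g x)) : P →* Equiv.Perm (Quotient (pairSetoid σ h2)) where
  toFun g := Quotient.congr (f g) fun x y => by
    show (y = x ∨ y = σ x) ↔ (f g y = f g x ∨ f g y = σ (f g x))
    rw [← hc, (f g).injective.eq_iff, (f g).injective.eq_iff]
  map_one' := by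
    ext q
    obtain ⟨x, rfl⟩ := Quotient.exists_rep q
    show Quotient.mk _ (f 1 x) = _
    simp
  map_mul' g h := by
    ext q
    obtain ⟨x, rfl⟩ := Quotient.exists_rep q
    show Quotient.mk _ (f (g * h) x) = Quotient.mk _ (f g (f h x))
    simp

theorem pairHom_mk (f : P →* Equiv.Perm Ω) (σ : Equiv.Perm Ω) (h2 : ∀ x, σ (σ x) = x)
    (hc : ∀ g x, f g (σ x) = σ (f g x)) (g : P) (x : Ω) :
    pairHom f σ h2 hc g (Quotient.mk _ x) = Quotient.mk _ (f g x) := rfl

theorem fpf_of_central (f : P →* Equiv.Perm Ω) (htr : ∀ x y, ∃ g, f g x = y) {z : P}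
    (hz : z ∈ center P) (hne : f z ≠ 1) : ∀ x, f z x ≠ x := by
  intro x hx
  refine hne (Equiv.ext fun y => ?_)
  obtain ⟨g, rfl⟩ := htr x y
  rw [Equiv.Perm.one_apply, ← Equiv.Perm.mul_apply, ← map_mul, ← mem_center_iff.1 hz g, map_mul,
    Equiv.Perm.mul_apply, hx]

theorem exists_central_involution [Finite P] [Nontrivial P] (hP : IsPGroup 2 P) :
    ∃ z ∈ center P, z ^ 2 = 1 ∧ z ≠ 1 := by
  haveI := hP.center_nontrivial
  obtain ⟨k, hk0, hk⟩ := (hP.to_subgroup (center P)).nontrivial_iff_card.1 inferInstance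
  haveI : Fact (Nat.Prime 2) := ⟨Nat.prime_two⟩
  obtain ⟨z, hz⟩ := exists_prime_orderOf_dvd_card' (G := center P) 2 (hk ▸ dvd_pow_self 2 hk0.ne')
  refine ⟨z, z.2, ?_, fun h => ?_⟩
  · have := pow_orderOf_eq_one z
    rw [hz] at this
    exact congrArg Subtype.val this
  · rw [show z = 1 from Subtype.ext h, orderOf_one] at hz
    omega

/-- A `2`-group of permutations of `n` points has `|P : ℧(P)|² ≤ 2ⁿ`. -/
theorem perm_bound : ∀ (n : ℕ) (P : Type u) [Group P] [Finite P] (Ω : Type v) [Finite Ω],
    Nat.card Ω = n → IsPGroup 2 P → ∀ f : P →* Equiv.Perm Ω, Function.Injective f →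
      (sq P).index ^ 2 ≤ 2 ^ n := by
  intro n
  induction n using Nat.strong_induction_on with
  | _ n ih =>
  intro P _ _ Ω _ hn hP f hf
  classical
  by_cases hsmall : n ≤ 2
  · have h1 : (sq P).index ≤ Nat.card (Equiv.Perm Ω) :=
      (Nat.le_of_dvd Nat.card_pos (index_dvd_card _)).trans (Nat.card_le_card_of_injective f hf)
    haveI := Fintype.ofFinite Ω
    rw [Nat.card_eq_fintype_card, Fintype.card_perm, ← Nat.card_eq_fintype_card, hn] at h1
    interval_cases n <;> simp [Nat.factorial] at h1 ⊢ <;> nlinarith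
  by_cases htr : ∀ x y, ∃ g, f g x = y
  · -- transitive case
    haveI : Nontrivial P := by
      by_contra hnt
      rw [not_nontrivial_iff_subsingleton] at hnt
      have hsub : Subsingleton Ω := ⟨fun x y => by
        obtain ⟨g, hg⟩ := htr x y
        rwa [Subsingleton.elim g 1, map_one, Equiv.Perm.one_apply] at hg⟩
      have := Finite.card_le_one_iff_subsingleton.2 hsub
      omega
    obtain ⟨z, hzc, hz2, hz1⟩ := exists_central_involution hP
    have hfz : f z ≠ 1 := fun h => hz1 (hf (h.trans f.map_one.symm))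
    have hzfix := fpf_of_central f htr hzc hfz
    have hzz : ∀ x, f z (f z x) = x := fun x => by
      rw [← Equiv.Perm.mul_apply, ← map_mul, ← pow_two, hz2, map_one, Equiv.Perm.one_apply]
    have hcm : ∀ g x, f g (f z x) = f z (f g x) := fun g x => by
      rw [← Equiv.Perm.mul_apply, ← map_mul, mem_center_iff.1 hzc g, map_mul, Equiv.Perm.mul_apply]
    have hcard := pair_card (f z) hzz hzfix
    let φ := pairHom f (f z) hzz hcm
    have hφtr : ∀ a b, ∃ g, φ g a = b := fun a b => by
      obtain ⟨x, rfl⟩ := Quotient.exists_rep a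
      obtain ⟨y, rfl⟩ := Quotient.exists_rep b
      obtain ⟨g, hg⟩ := htr x y
      exact ⟨g, by rw [pairHom_mk, hg]⟩
    let ψ := QuotientGroup.kerLift φ
    have hψtr : ∀ a b, ∃ g, ψ g a = b := fun a b => by
      obtain ⟨g, hg⟩ := hφtr a b
      exact ⟨(g : P ⧸ φ.ker), hg⟩
    have hψi : Function.Injective ψ := QuotientGroup.kerLift_injective φ
    have hQ := ih _ (by omega) (P ⧸ φ.ker) _ rfl (hP.to_quotient _) ψ hψi
    haveI : Nontrivial (P ⧸ φ.ker) := by
      by_contra hnt
      rw [not_nontrivial_iff_subsingleton] at hnt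
      have hsub : Subsingleton (Quotient (pairSetoid (f z) hzz)) := ⟨fun a b => by
        obtain ⟨g, hg⟩ := hψtr a b
        rwa [Subsingleton.elim g 1, map_one, Equiv.Perm.one_apply] at hg⟩
      have := Finite.card_le_one_iff_subsingleton.2 hsub
      omega
    obtain ⟨w, hwc, hw2, hw1⟩ := exists_central_involution (hP.to_quotient φ.ker)
    have hψw : ψ w ≠ 1 := fun h => hw1 (hψi (h.trans ψ.map_one.symm))
    have hwfix := fpf_of_central ψ hψtr hwc hψw
    have hww : ∀ a, ψ w (ψ w a) = a := fun a => by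
      rw [← Equiv.Perm.mul_apply, ← map_mul, ← pow_two, hw2, map_one, Equiv.Perm.one_apply]
    have hcard' := pair_card (ψ w) hww hwfix
    obtain ⟨y, hy⟩ := QuotientGroup.mk_surjective w
    -- elements of the kernel act on each pair
    have hdich : ∀ e : φ.ker, ∀ x, f e x = x ∨ f e x = f z x := fun e x => by
      have h : φ e (Quotient.mk _ x) = Quotient.mk _ x := by
        rw [MonoidHom.mem_ker.1 e.2]; rfl
      rw [pairHom_mk, eq_comm, Quotient.eq] at h
      exact h
    have hNc : ∀ e e' : φ.ker, e * e' = e' * e := fun e e' => Subtype.ext (hf (Equiv.ext fun x => by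
      show f ((e : P) * e') x = f ((e' : P) * e) x
      rw [map_mul, map_mul, Equiv.Perm.mul_apply, Equiv.Perm.mul_apply]
      rcases hdich e' x with h | h <;> rcases hdich e x with h' | h' <;>
        simp only [h, h', hcm, hzz]))
    haveI : φ.ker.Normal := inferInstance
    let η : φ.ker →* φ.ker :=
      { toFun := fun e => ⟨(e : P) * (y * (e : P)⁻¹ * y⁻¹),
          mul_mem e.2 ((inferInstance : φ.ker.Normal).conj_mem _ (inv_mem e.2) y)⟩
        map_one' := Subtype.ext (by simp)
        map_mul' := fun a b => Subtype.ext (by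
          have hab := congrArg Subtype.val (hNc b
            ⟨y * (a : P)⁻¹ * y⁻¹, (inferInstance : φ.ker.Normal).conj_mem _ (inv_mem a.2) y⟩)
          simp only [Subgroup.coe_mul] at hab ⊢
          have hb : y * ((a : P) * b)⁻¹ * y⁻¹ = (y * (a : P)⁻¹ * y⁻¹) * (y * (b : P)⁻¹ * y⁻¹) := by
            have hab' := congrArg Subtype.val (hNc a b)
            simp only [Subgroup.coe_mul] at hab'
            rw [hab']; group
          rw [hb]
          calc (a : P) * b * (y * (a : P)⁻¹ * y⁻¹ * (y * (b : P)⁻¹ * y⁻¹))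
              = a * (b * (y * (a : P)⁻¹ * y⁻¹)) * (y * (b : P)⁻¹ * y⁻¹) := by group
            _ = a * (y * (a : P)⁻¹ * y⁻¹) * (b * (y * (b : P)⁻¹ * y⁻¹)) := by rw [hab]; group) }
    have hη := relIndex_le_ker φ.ker η fun e => by
      have := comm_mem_sq (e : P) y
      show (e : P) * (y * (e : P)⁻¹ * y⁻¹) ∈ sq P
      simpa [mul_assoc] using this
    -- the kernel of `η` is determined on one point of each orbit of `⟨z, y⟩`
    have hker : Nat.card η.ker ≤ 2 ^ Nat.card (Quotient (pairSetoid (ψ w) hww)) := by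
      have hcy : ∀ e : η.ker, ∀ x, f (e : φ.ker) (f y x) = f y (f (e : φ.ker) x) := fun e x => by
        have h := congrArg Subtype.val (MonoidHom.mem_ker.1 e.2)
        change ((e : φ.ker) : P) * (y * ((e : φ.ker) : P)⁻¹ * y⁻¹) = 1 at h
        have h' : ((e : φ.ker) : P) * y = y * (e : φ.ker) := by
          calc ((e : φ.ker) : P) * y
              = ((e : φ.ker) : P) * (y * ((e : φ.ker) : P)⁻¹ * y⁻¹) * (y * (e : φ.ker)) := by group
            _ = y * (e : φ.ker) := by rw [h, one_mul]
        rw [← Equiv.Perm.mul_apply, ← map_mul, h', map_mul, Equiv.Perm.mul_apply]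
      let rep : Quotient (pairSetoid (ψ w) hww) → Ω := fun c => c.out.out
      refine (Nat.card_le_card_of_injective
        (fun e : η.ker => fun c => decide (f (e : φ.ker) (rep c) = rep c)) ?_).trans_eq ?_
      · intro e e' h
        refine Subtype.ext (Subtype.ext (hf (Equiv.ext fun x => ?_)))
        have base : ∀ c, f (e : φ.ker) (rep c) = f (e' : φ.ker) (rep c) := fun c => by
          have hc := congrFun h c
          simp only [decide_eq_decide] at hc
          rcases hdich (e : φ.ker) (rep c) with h1 | h1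
          · rw [h1, hc.1 h1]
          · rcases hdich (e' : φ.ker) (rep c) with h2 | h2
            · rw [h2, hc.2 h2]
            · rw [h1, h2]
        set c : Quotient (pairSetoid (ψ w) hww) := Quotient.mk _ (Quotient.mk _ x) with hc
        have h1 : (Quotient.mk (pairSetoid (f z) hzz) x) = c.out ∨
            (Quotient.mk (pairSetoid (f z) hzz) x) = ψ w c.out :=
          Quotient.eq.1 (Quotient.out_eq c)
        have h2 : ∀ u, (Quotient.mk (pairSetoid (f z) hzz) x) = Quotient.mk _ u →
            x = u ∨ x = f z u := fun u hu => Quotient.eq.1 hu.symm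
        have hx : x = rep c ∨ x = f z (rep c) ∨ x = f y (rep c) ∨ x = f z (f y (rep c)) := by
          rcases h1 with h1 | h1
          · rcases h2 (rep c) (h1.trans (Quotient.out_eq _).symm) with h | h
            · exact Or.inl h
            · exact Or.inr (Or.inl h)
          · have h3 : (Quotient.mk (pairSetoid (f z) hzz) x) = Quotient.mk _ (f y (rep c)) := by
              have h4 : ψ w c.out = φ y c.out := congrArg (fun v => ψ v c.out) hy.symm
              rw [h1, h4]
              conv_lhs => rw [← Quotient.out_eq c.out]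
              rfl
            rcases h2 _ h3 with h | h
            · exact Or.inr (Or.inr (Or.inl h))
            · exact Or.inr (Or.inr (Or.inr h))
        rcases hx with h | h | h | h <;> rw [h]
        · exact base c
        · rw [hcm, hcm, base]
        · rw [hcy, hcy, base]
        · rw [hcm, hcm, hcy, hcy, base]
      · rw [Nat.card_fun, Nat.card_eq_fintype_card, Fintype.card_bool]
    have h1 := index_sq_le (QuotientGroup.mk' φ.ker) (QuotientGroup.mk'_surjective _)
    rw [QuotientGroup.ker_mk'] at h1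
    calc (sq P).index ^ 2 ≤ ((sq (P ⧸ φ.ker)).index * 2 ^ Nat.card (Quotient (pairSetoid (ψ w) hww))) ^ 2 :=
          Nat.pow_le_pow_left (h1.trans (Nat.mul_le_mul_left _ (hη.trans hker))) 2
      _ ≤ 2 ^ Nat.card (Quotient (pairSetoid (f z) hzz)) *
          2 ^ (Nat.card (Quotient (pairSetoid (ψ w) hww)) * 2) := by
          rw [mul_pow, ← pow_mul]; exact Nat.mul_le_mul_right _ hQ
      _ = 2 ^ n := by rw [← pow_add, hcard']; congr 1; omega
  · -- intransitive case
    push Not at htr
    obtain ⟨x₀, y₀, hxy⟩ := htr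
    let O : Ω → Prop := fun x => ∃ g, f g x₀ = x
    have hinv : ∀ g x, O (f g x) ↔ O x := fun g x => by
      constructor
      · rintro ⟨h, hh⟩
        exact ⟨g⁻¹ * h, by rw [map_mul, Equiv.Perm.mul_apply, hh, ← Equiv.Perm.mul_apply, ← map_mul,
          inv_mul_cancel, map_one, Equiv.Perm.one_apply]⟩
      · rintro ⟨h, rfl⟩
        exact ⟨g * h, by rw [map_mul, Equiv.Perm.mul_apply]⟩
    let res : ∀ (R : Ω → Prop), (∀ g x, R (f g x) ↔ R x) → P →* Equiv.Perm {x // R x} := fun R hR =>
      { toFun := fun g => (f g).subtypePerm (hR g)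
        map_one' := Equiv.ext fun x => Subtype.ext (by simp)
        map_mul' := fun g h => Equiv.ext fun x => Subtype.ext
          (show f (g * h) x.1 = f g (f h x.1) by rw [map_mul, Equiv.Perm.mul_apply]) }
    let φ := res O hinv
    let φ' := res (fun x => ¬ O x) (fun g x => not_congr (hinv g x))
    have hcard : Nat.card {x // O x} + Nat.card {x // ¬ O x} = n := by
      rw [← Nat.card_sum, Nat.card_congr (Equiv.sumCompl O), hn]
    have hpos1 : 0 < Nat.card {x // O x} := Nat.card_pos_iff.2 ⟨⟨⟨x₀, 1, by simp⟩⟩, inferInstance⟩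
    have hpos2 : 0 < Nat.card {x // ¬ O x} :=
      Nat.card_pos_iff.2 ⟨⟨⟨y₀, fun ⟨g, hg⟩ => hxy g hg⟩⟩, inferInstance⟩
    have hQ := ih _ (by omega) (P ⧸ φ.ker) _ rfl (hP.to_quotient _) (QuotientGroup.kerLift φ)
      (QuotientGroup.kerLift_injective φ)
    have hN := ih _ (by omega) φ.ker {x // ¬ O x} rfl (hP.to_subgroup _) (φ'.comp φ.ker.subtype) (by
      intro a b hab
      refine Subtype.ext (hf (Equiv.ext fun x => ?_))
      by_cases hx : O x
      · have ha := congrArg Subtype.val (Equiv.ext_iff.1 (MonoidHom.mem_ker.1 a.2) ⟨x, hx⟩)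
        have hb := congrArg Subtype.val (Equiv.ext_iff.1 (MonoidHom.mem_ker.1 b.2) ⟨x, hx⟩)
        exact ha.trans hb.symm
      · exact congrArg Subtype.val (Equiv.ext_iff.1 hab ⟨x, hx⟩))
    have h1 := index_sq_le (QuotientGroup.mk' φ.ker) (QuotientGroup.mk'_surjective _)
    rw [QuotientGroup.ker_mk'] at h1
    calc (sq P).index ^ 2 ≤ ((sq (P ⧸ φ.ker)).index * (sq φ.ker).index) ^ 2 :=
          Nat.pow_le_pow_left (h1.trans (Nat.mul_le_mul_left _ (relIndex_le_index _))) 2
      _ ≤ 2 ^ n := by rw [mul_pow, ← hcard, pow_add]; exact Nat.mul_le_mul hQ hN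

end CfsgLib.TwoLinear
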