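import Mathlib.GroupTheory.Frattini
import Mathlib.GroupTheory.Index
import Mathlib.GroupTheory.Nilpotent
import Mathlib.GroupTheory.Perm.Basic
import Mathlib.Tactic.Group
import Mathlib.Tactic.Linarith
import Mathlib.RingTheory.Coprime.Lemmas
import Mathlib.Tactic.Ring

/-!
# The subgroup generated by squares of a `2`-group and the generator bound for permutation `2`-groups
-/

set_option autoImplicit false
set_option linter.unusedSectionVars false
set_option linter.style.haveILetI false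

namespace CfsgLib.TwoLinear

open Subgroup

variable {P : Type*} [Group P]

/-- The subgroup generated by all squares. -/
def sq (P : Type*) [Group P] : Subgroup P := Subgroup.closure (Set.range fun x : P => x ^ 2)

theorem sq_mem (x : P) : x ^ 2 ∈ sq P := subset_closure ⟨x, rfl⟩

theorem map_sq {Q : Type*} [Group Q] (f : P →* Q) (hf : Function.Surjective f) : (sq P).map f = sq Q := by
  rw [sq, sq, MonoidHom.map_closure]
  congr 1
  ext y
  constructor
  · rintro ⟨_, ⟨x, rfl⟩, rfl⟩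
    exact ⟨f x, by simp⟩
  · rintro ⟨y, rfl⟩
    obtain ⟨x, rfl⟩ := hf y
    exact ⟨x ^ 2, ⟨x, rfl⟩, by simp⟩

instance sq_normal : (sq P).Normal := by
  refine ⟨fun x hx g => ?_⟩
  rw [← map_sq (MulAut.conj g).toMonoidHom (MulAut.conj g).surjective]
  exact ⟨x, hx, rfl⟩

theorem comm_mem_sq (a b : P) : a * b * a⁻¹ * b⁻¹ ∈ sq P := by
  have e : a * b * a⁻¹ * b⁻¹ = (a * b) ^ 2 * ((b⁻¹ * a⁻¹ * b) ^ 2 * (b⁻¹) ^ 2) := by
    rw [pow_two, pow_two, pow_two]; group
  rw [e]
  exact mul_mem (sq_mem _) (mul_mem (sq_mem _) (sq_mem _))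

theorem sq_le_map_subtype (N : Subgroup P) : (sq N).map N.subtype ≤ N ⊓ sq P := by
  rw [sq, MonoidHom.map_closure, closure_le]
  rintro _ ⟨_, ⟨x, rfl⟩, rfl⟩
  exact ⟨(x ^ 2).2, by simpa using sq_mem (x : P)⟩

theorem sq_le_frattini [Finite P] (hP : IsPGroup 2 P) : sq P ≤ frattini P := by
  refine le_iInf₂ fun M hM => ?_
  refine (closure_le M).2 ?_
  rintro _ ⟨x, rfl⟩
  haveI := hP.isNilpotent
  haveI : M.Normal := NormalizerCondition.normal_of_coatom M Group.normalizerCondition_of_isNilpotent hM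
  by_contra hx
  obtain ⟨k, hk⟩ := hP x
  have hxM : x ∉ M := fun h => hx (pow_mem h 2)
  have htop : M ⊔ zpowers (x ^ 2) = ⊤ :=
    hM.2 _ (lt_of_le_of_ne le_sup_left fun e => hx (e.symm ▸ mem_sup_right (mem_zpowers _)))
  have hmem : x ∈ M ⊔ zpowers (x ^ 2) := htop.symm ▸ mem_top x
  obtain ⟨m, hm, _, ⟨i, rfl⟩, e⟩ := mem_sup_of_normal_left.1 hmem
  have h1 : x ^ (1 - 2 * i) ∈ M := by
    have : x ^ (1 - 2 * i) = m := by
      conv_lhs => rw [zpow_sub, zpow_one, zpow_mul, zpow_ofNat]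
      rw [mul_inv_eq_iff_eq_mul]; exact e.symm
    exact this ▸ hm
  have h2 : x ^ ((2 : ℤ) ^ k) ∈ M := by
    rw [show ((2 : ℤ) ^ k) = ((2 ^ k : ℕ) : ℤ) by push_cast; ring, zpow_natCast, hk]
    exact one_mem M
  obtain ⟨u, v, huv⟩ : IsCoprime (1 - 2 * i) ((2 : ℤ) ^ k) :=
    IsCoprime.pow_right ⟨1, i, by ring⟩
  refine hxM ?_
  have : x = (x ^ (1 - 2 * i)) ^ u * (x ^ ((2 : ℤ) ^ k)) ^ v := by
    rw [← zpow_mul, ← zpow_mul, ← zpow_add, mul_comm (1 - 2 * i), mul_comm ((2 : ℤ) ^ k), huv, zpow_one]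
  rw [this]
  exact mul_mem (zpow_mem h1 u) (zpow_mem h2 v)

theorem index_sq_le {Q : Type*} [Group Q] [Finite P] (f : P →* Q) (hf : Function.Surjective f) :
    (sq P).index ≤ (sq Q).index * (sq P).relIndex f.ker := by
  rw [← map_sq f hf, index_map, MonoidHom.range_eq_top.2 hf, index_top, mul_one,
    ← relIndex_mul_index (le_sup_left : sq P ≤ sq P ⊔ f.ker), relIndex_sup_left]
  exact (mul_comm _ _).le

theorem relIndex_le_index [Finite P] (N : Subgroup P) : (sq P).relIndex N ≤ (sq N).index := by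
  refine Nat.le_of_dvd (Nat.pos_of_ne_zero index_ne_zero_of_finite) (index_dvd_of_le ?_)
  intro x hx
  exact (sq_le_map_subtype N ⟨x, hx, rfl⟩).2

theorem relIndex_le_ker [Finite P] (N : Subgroup P) (φ : N →* N) (hφ : ∀ x, (φ x : P) ∈ sq P) :
    (sq P).relIndex N ≤ Nat.card φ.ker := by
  have hle : φ.range ≤ (sq P).subgroupOf N := by rintro _ ⟨x, rfl⟩; exact hφ x
  have h1 : φ.range.index = Nat.card φ.ker := by
    have e1 := φ.range.card_mul_index
    have e2 := φ.ker.card_mul_index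
    rw [index_ker, mul_comm] at e2
    exact Nat.eq_of_mul_eq_mul_left Nat.card_pos (e1.trans e2.symm)
  exact h1 ▸ Nat.le_of_dvd (Nat.pos_of_ne_zero index_ne_zero_of_finite) (index_dvd_of_le hle)

end CfsgLib.TwoLinear
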